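import Mathlib

set_option autoImplicit false
universe u

namespace Groth.Agent.Helper5.HypPair

variable {A : Type u} [Ring A]

theorem sq_one {a b : A} (haa : a * a = 0) (hbb : b * b = 0) (hab : a * b + b * a = 1) :
    (1 - 2 * (a * b)) * (1 - 2 * (a * b)) = 1 := by
  have hba : b * a = 1 - a * b := by rw [← hab]; abel
  have h1 : a * b * (a * b) = a * b := by
    calc a * b * (a * b) = a * (b * a) * b := by noncomm_ring
      _ = a * (1 - a * b) * b := by rw [hba]
      _ = a * b - (a * a) * (b * b) := by noncomm_ring
      _ = a * b := by rw [haa]; simp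
  calc (1 - 2 * (a * b)) * (1 - 2 * (a * b)) = 1 - 4 * (a * b) + 4 * (a * b * (a * b)) := by
        noncomm_ring
    _ = 1 := by rw [h1]; noncomm_ring

theorem anti_left {a b : A} (haa : a * a = 0) (hab : a * b + b * a = 1) :
    a * (1 - 2 * (a * b)) = -((1 - 2 * (a * b)) * a) := by
  have hba : b * a = 1 - a * b := by rw [← hab]; abel
  have h1 : a * (1 - 2 * (a * b)) = a := by
    calc a * (1 - 2 * (a * b)) = a - 2 * ((a * a) * b) := by noncomm_ring
      _ = a := by rw [haa]; simp
  have h2 : (1 - 2 * (a * b)) * a = -a := by
    calc (1 - 2 * (a * b)) * a = a - 2 * (a * (b * a)) := by noncomm_ring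
      _ = a - 2 * (a * (1 - a * b)) := by rw [hba]
      _ = -a + 2 * ((a * a) * b) := by noncomm_ring
      _ = -a := by rw [haa]; simp
  rw [h1, h2, neg_neg]

theorem anti_right {a b : A} (hbb : b * b = 0) (hab : a * b + b * a = 1) :
    b * (1 - 2 * (a * b)) = -((1 - 2 * (a * b)) * b) := by
  have hba : b * a = 1 - a * b := by rw [← hab]; abel
  have h1 : (1 - 2 * (a * b)) * b = b := by
    calc (1 - 2 * (a * b)) * b = b - 2 * (a * (b * b)) := by noncomm_ring
      _ = b := by rw [hbb]; simp
  have h2 : b * (1 - 2 * (a * b)) = -b := by
    calc b * (1 - 2 * (a * b)) = b - 2 * ((b * a) * b) := by noncomm_ring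
      _ = b - 2 * ((1 - a * b) * b) := by rw [hba]
      _ = -b + 2 * (a * (b * b)) := by noncomm_ring
      _ = -b := by rw [hbb]; simp
  rw [h1, h2]

theorem comm_of_anti {a b c : A} (hca : c * a = -(a * c)) (hcb : c * b = -(b * c)) :
    c * (1 - 2 * (a * b)) = (1 - 2 * (a * b)) * c := by
  have h : c * (a * b) = a * b * c := by
    calc c * (a * b) = (c * a) * b := by noncomm_ring
      _ = -(a * c) * b := by rw [hca]
      _ = -(a * (c * b)) := by noncomm_ring
      _ = -(a * (-(b * c))) := by rw [hcb]
      _ = a * b * c := by noncomm_ring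
  calc c * (1 - 2 * (a * b)) = c - 2 * (c * (a * b)) := by noncomm_ring
    _ = c - 2 * (a * b * c) := by rw [h]
    _ = (1 - 2 * (a * b)) * c := by noncomm_ring

/-- list lemma: if `x` anticommutes with `u i₀`, commutes with all other `u i`, and `L` is a nodup
list containing `i₀`, then `x` anticommutes with the product. -/
theorem anti_list_prod {ι : Type*} [DecidableEq ι] (u : ι → A) (x : A) (i₀ : ι)
    (h0 : x * u i₀ = -(u i₀ * x)) (h1 : ∀ i, i ≠ i₀ → x * u i = u i * x) :
    ∀ L : List ι, L.Nodup →
      (i₀ ∈ L → x * (L.map u).prod = -((L.map u).prod * x)) ∧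
      (i₀ ∉ L → x * (L.map u).prod = (L.map u).prod * x) := by
  intro L
  induction L with
  | nil => intro _; simp
  | cons i L ih =>
    intro hnd
    rw [List.nodup_cons] at hnd
    obtain ⟨ih1, ih2⟩ := ih hnd.2
    simp only [List.map_cons, List.prod_cons, List.mem_cons]
    constructor
    · rintro (rfl | hmem)
      · have := ih2 hnd.1
        calc x * (u i₀ * (List.map u L).prod) = (x * u i₀) * (List.map u L).prod := by noncomm_ring
          _ = -(u i₀ * x) * (List.map u L).prod := by rw [h0]
          _ = -(u i₀ * (x * (List.map u L).prod)) := by noncomm_ring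
          _ = -(u i₀ * ((List.map u L).prod * x)) := by rw [this]
          _ = -(u i₀ * (List.map u L).prod * x) := by noncomm_ring
      · have hne : i ≠ i₀ := by rintro rfl; exact hnd.1 hmem
        have := ih1 hmem
        calc x * (u i * (List.map u L).prod) = (x * u i) * (List.map u L).prod := by noncomm_ring
          _ = (u i * x) * (List.map u L).prod := by rw [h1 i hne]
          _ = u i * (x * (List.map u L).prod) := by noncomm_ring
          _ = u i * (-((List.map u L).prod * x)) := by rw [this]
          _ = -(u i * (List.map u L).prod * x) := by noncomm_ring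
    · intro hnot
      push Not at hnot
      have hne : i ≠ i₀ := fun h => hnot.1 h.symm
      have := ih2 hnot.2
      calc x * (u i * (List.map u L).prod) = (x * u i) * (List.map u L).prod := by noncomm_ring
        _ = (u i * x) * (List.map u L).prod := by rw [h1 i hne]
        _ = u i * (x * (List.map u L).prod) := by noncomm_ring
        _ = u i * ((List.map u L).prod * x) := by rw [this]
        _ = u i * (List.map u L).prod * x := by noncomm_ring

/-- product of pairwise commuting involutions is an involution. -/
theorem list_prod_sq_one {ι : Type*} (u : ι → A) (hc : ∀ i k, Commute (u i) (u k))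
    (hs : ∀ i, u i * u i = 1) : ∀ L : List ι, (L.map u).prod * (L.map u).prod = 1 := by
  intro L
  induction L with
  | nil => simp
  | cons i L ih =>
    simp only [List.map_cons, List.prod_cons]
    have hcomm : Commute (u i) (List.map u L).prod := by
      apply Commute.list_prod_right
      intro y hy
      obtain ⟨k, _, rfl⟩ := List.mem_map.1 hy
      exact hc i k
    calc u i * (List.map u L).prod * (u i * (List.map u L).prod)
        = u i * ((List.map u L).prod * u i) * (List.map u L).prod := by noncomm_ring
      _ = u i * (u i * (List.map u L).prod) * (List.map u L).prod := by rw [hcomm.eq]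
      _ = (u i * u i) * ((List.map u L).prod * (List.map u L).prod) := by noncomm_ring
      _ = 1 := by rw [hs, ih, one_mul]

end Groth.Agent.Helper5.HypPair
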