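import Mathlib
import Groth.Prelude
import Groth.Agent.Lib.Helper5.Cliff.HypPair

set_option autoImplicit false
universe u

namespace Groth.Agent.Helper5.SplitCliff

open QuadGrp CliffordAlgebra

variable (R : Type u) [CommRing R] (m : ℕ)

theorem splitForm_apply (x : Fin (m * 2) → R) :
    splitForm R (m * 2) x =
      ∑ i : Fin m, x (finProdFinEquiv (i, 0)) * x (finProdFinEquiv (i, 1)) := by
  have hmod : m * 2 % 2 = 0 := Nat.mul_mod_left m 2
  have hdiv : m * 2 / 2 = m := Nat.mul_div_cancel m (by norm_num)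
  unfold splitForm
  rw [dif_neg (by omega)]
  simp only [add_zero, sum_apply, QuadraticMap.linMulLin_apply, LinearMap.proj_apply]
  refine Fintype.sum_equiv (finCongr hdiv) _ _ ?_
  intro i
  congr 2 <;>
  · apply Fin.ext
    simp [finProdFinEquiv, hmod]
    try ring


/-- basis vectors -/
noncomputable def bv (i : Fin m) (t : Fin 2) : Fin (m * 2) → R := Pi.single (finProdFinEquiv (i, t)) 1

theorem bv_apply (i i' : Fin m) (t t' : Fin 2) :
    bv R m i t (finProdFinEquiv (i', t')) = if i' = i ∧ t' = t then 1 else 0 := by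
  unfold bv
  rw [Pi.single_apply]
  congr 1
  rw [finProdFinEquiv.apply_eq_iff_eq, Prod.mk.injEq]

theorem Q_bv (i : Fin m) (t : Fin 2) : splitForm R (m * 2) (bv R m i t) = 0 := by
  rw [splitForm_apply]
  apply Finset.sum_eq_zero
  intro i' _
  rw [bv_apply, bv_apply]
  fin_cases t <;> simp

theorem polar_bv (i₁ i₂ : Fin m) (s t : Fin 2) :
    QuadraticMap.polar (splitForm R (m * 2)) (bv R m i₁ s) (bv R m i₂ t) =
      if i₁ = i₂ ∧ s ≠ t then 1 else 0 := by
  unfold QuadraticMap.polar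
  rw [splitForm_apply, splitForm_apply, splitForm_apply, ← Finset.sum_sub_distrib,
    ← Finset.sum_sub_distrib]
  simp only [Pi.add_apply, bv_apply]
  fin_cases s <;> fin_cases t <;> simp [Finset.sum_ite_eq, eq_comm]


theorem main :
    let Q := QuadGrp.splitForm R (m * 2)
    let e : Fin (m * 2) → CliffordAlgebra Q := fun j => CliffordAlgebra.ι Q (Pi.single j 1)
    let w : CliffordAlgebra Q :=
      ((List.finRange m).map fun i => 1 - 2 * (e (finProdFinEquiv (i, 0)) * e (finProdFinEquiv (i, 1)))).prod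
    w * w = 1 ∧ ∀ j : Fin (m * 2), e j * w = -(w * e j) := by
  intro Q e w
  have hE : ∀ i t, e (finProdFinEquiv (i, t)) = ι Q (bv R m i t) := fun i t => rfl
  have hsq : ∀ i t, ι Q (bv R m i t) * ι Q (bv R m i t) = 0 := by
    intro i t; rw [ι_sq_scalar, Q_bv, map_zero]
  have hswap : ∀ i₁ i₂ s t, ι Q (bv R m i₁ s) * ι Q (bv R m i₂ t) +
      ι Q (bv R m i₂ t) * ι Q (bv R m i₁ s) =
      algebraMap R _ (if i₁ = i₂ ∧ s ≠ t then 1 else 0) := by
    intro i₁ i₂ s t; rw [ι_mul_ι_add_swap, polar_bv]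
  set u : Fin m → CliffordAlgebra Q :=
    fun i => 1 - 2 * (ι Q (bv R m i 0) * ι Q (bv R m i 1)) with hu
  have hw : w = ((List.finRange m).map u).prod := rfl
  have h01 : ∀ i, ι Q (bv R m i 0) * ι Q (bv R m i 1) +
      ι Q (bv R m i 1) * ι Q (bv R m i 0) = 1 := by
    intro i; rw [hswap]; simp
  have hanti : ∀ i₁ i₂ s t, i₁ ≠ i₂ → ι Q (bv R m i₁ s) * ι Q (bv R m i₂ t) =
      -(ι Q (bv R m i₂ t) * ι Q (bv R m i₁ s)) := by
    intro i₁ i₂ s t hne
    have := hswap i₁ i₂ s t
    rw [if_neg (by tauto), map_zero] at this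
    exact eq_neg_of_add_eq_zero_left this
  have hx_anti : ∀ i s, ι Q (bv R m i s) * u i = -(u i * ι Q (bv R m i s)) := by
    intro i s
    fin_cases s
    · exact HypPair.anti_left (hsq i 0) (h01 i)
    · exact HypPair.anti_right (hsq i 1) (h01 i)
  have hx_comm : ∀ i₁ s i, i ≠ i₁ → ι Q (bv R m i₁ s) * u i = u i * ι Q (bv R m i₁ s) := by
    intro i₁ s i hne
    exact HypPair.comm_of_anti (hanti i₁ i s 0 hne.symm) (hanti i₁ i s 1 hne.symm)
  have hcomm : ∀ i k, Commute (u i) (u k) := by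
    intro i k
    by_cases hik : i = k
    · subst hik; exact Commute.refl _
    · have ha : Commute (u i) (ι Q (bv R m k 0)) := (hx_comm k 0 i hik).symm
      have hb : Commute (u i) (ι Q (bv R m k 1)) := (hx_comm k 1 i hik).symm
      show Commute (u i) (1 - 2 * (ι Q (bv R m k 0) * ι Q (bv R m k 1)))
      exact (Commute.one_right _).sub_right ((Commute.ofNat_right _ 2).mul_right (ha.mul_right hb))
  refine ⟨?_, ?_⟩
  · rw [hw]
    exact HypPair.list_prod_sq_one u hcomm
      (fun i => HypPair.sq_one (hsq i 0) (hsq i 1) (h01 i)) _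
  · intro j
    obtain ⟨⟨i₁, s⟩, rfl⟩ := finProdFinEquiv.surjective j
    rw [hE, hw]
    exact (HypPair.anti_list_prod u _ i₁ (hx_anti i₁ s) (fun i hne => hx_comm i₁ s i hne)
      (List.finRange m) (List.nodup_finRange m)).1 (List.mem_finRange i₁)

end Groth.Agent.Helper5.SplitCliff
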