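import Mathlib
import Groth.Prelude

set_option autoImplicit false
set_option linter.unusedSimpArgs false
set_option linter.unnecessarySeqFocus false
set_option linter.unreachableTactic false
set_option linter.unusedTactic false

namespace Groth.Agent.Lib.Helper5.CliffThree

section Abstract

variable {A : Type*} [Ring A]

/-- relations of the Clifford algebra of `x₀² + x₁x₂` -/
structure Rel (E0 E1 E2 : A) : Prop where
  h00 : E0 * E0 = 1
  h11 : E1 * E1 = 0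
  h22 : E2 * E2 = 0
  h10 : E1 * E0 = -(E0 * E1)
  h20 : E2 * E0 = -(E0 * E2)
  h21 : E2 * E1 = 1 - E1 * E2

variable {E0 E1 E2 : A} (rel : Rel E0 E1 E2)
include rel

lemma Rel.h00' (x : A) : E0 * (E0 * x) = x := by rw [← mul_assoc, rel.h00, one_mul]
lemma Rel.h11' (x : A) : E1 * (E1 * x) = 0 := by rw [← mul_assoc, rel.h11, zero_mul]
lemma Rel.h22' (x : A) : E2 * (E2 * x) = 0 := by rw [← mul_assoc, rel.h22, zero_mul]
lemma Rel.h10' (x : A) : E1 * (E0 * x) = -(E0 * (E1 * x)) := by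
  rw [← mul_assoc, rel.h10, neg_mul, mul_assoc]
lemma Rel.h20' (x : A) : E2 * (E0 * x) = -(E0 * (E2 * x)) := by
  rw [← mul_assoc, rel.h20, neg_mul, mul_assoc]
lemma Rel.h21' (x : A) : E2 * (E1 * x) = x - E1 * (E2 * x) := by
  rw [← mul_assoc, rel.h21, sub_mul, one_mul, mul_assoc]

end Abstract

/-- normal form simp set -/
macro "cliff_nf" r:term : tactic =>
  `(tactic| simp only [mul_assoc, mul_sub, sub_mul, two_mul, add_mul, mul_add,
    Rel.h00 $r, Rel.h11 $r, Rel.h22 $r, Rel.h10 $r, Rel.h20 $r, Rel.h21 $r,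
    Rel.h00' $r, Rel.h11' $r, Rel.h22' $r, Rel.h10' $r, Rel.h20' $r, Rel.h21' $r,
    mul_neg, neg_mul, mul_one, one_mul, mul_zero, zero_mul, neg_neg, neg_zero, sub_zero, zero_sub,
    smul_mul_assoc, mul_smul_comm, smul_neg, smul_zero, smul_sub, smul_add, add_zero, zero_add])

section Abstract2

variable {k : Type*} [Field k] {A : Type*} [Ring A] [Algebra k A]
variable {E0 E1 E2 : A} (rel : Rel E0 E1 E2)

/-- the central odd element -/
def zz (E0 E1 E2 : A) : A := E0 * (E1 * E2 - E2 * E1)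

include rel in
lemma zz_eq : zz E0 E1 E2 = 2 * (E0 * (E1 * E2)) - E0 := by
  unfold zz
  rw [rel.h21]
  noncomm_ring

include rel in
lemma zz_mul_zz : zz E0 E1 E2 * zz E0 E1 E2 = 1 := by
  rw [zz_eq rel]
  (cliff_nf rel) <;> abel

include rel in
lemma E0_mul_zz : E0 * zz E0 E1 E2 = zz E0 E1 E2 * E0 := by
  rw [zz_eq rel]
  (cliff_nf rel) <;> abel

include rel in
lemma E1_mul_zz : E1 * zz E0 E1 E2 = zz E0 E1 E2 * E1 := by
  rw [zz_eq rel]
  (cliff_nf rel) <;> abel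

include rel in
lemma E2_mul_zz : E2 * zz E0 E1 E2 = zz E0 E1 E2 * E2 := by
  rw [zz_eq rel]
  (cliff_nf rel) <;> abel

variable (k E0 E1 E2) in
/-- even span -/
def S : Submodule k A := Submodule.span k {1, E1 * E2, E0 * E1, E0 * E2}

variable (k E0 E1 E2) in
/-- odd span -/
def S' : Submodule k A := Submodule.span k {E0, E1, E2, E0 * (E1 * E2)}

variable (k E0 E1 E2) in
/-- vectors -/
def V : Submodule k A := Submodule.span k {E0, E1, E2}

lemma mem_S_iff {x : A} : x ∈ S k E0 E1 E2 ↔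
    ∃ a b c d : k, x = a • (1 : A) + b • (E1 * E2) + c • (E0 * E1) + d • (E0 * E2) := by
  unfold S
  simp only [Submodule.mem_span_insert, Submodule.mem_span_singleton]
  constructor
  · rintro ⟨a, _, ⟨b, _, ⟨c, _, ⟨d, rfl⟩, rfl⟩, rfl⟩, rfl⟩
    exact ⟨a, b, c, d, by abel⟩
  · rintro ⟨a, b, c, d, rfl⟩
    exact ⟨a, _, ⟨b, _, ⟨c, _, ⟨d, rfl⟩, rfl⟩, rfl⟩, by abel⟩

lemma mem_S'_iff {x : A} : x ∈ S' k E0 E1 E2 ↔
    ∃ a b c d : k, x = a • E0 + b • E1 + c • E2 + d • (E0 * (E1 * E2)) := by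
  unfold S'
  simp only [Submodule.mem_span_insert, Submodule.mem_span_singleton]
  constructor
  · rintro ⟨a, _, ⟨b, _, ⟨c, _, ⟨d, rfl⟩, rfl⟩, rfl⟩, rfl⟩
    exact ⟨a, b, c, d, by abel⟩
  · rintro ⟨a, b, c, d, rfl⟩
    exact ⟨a, _, ⟨b, _, ⟨c, _, ⟨d, rfl⟩, rfl⟩, rfl⟩, by abel⟩

lemma mem_V_iff {x : A} : x ∈ V k E0 E1 E2 ↔
    ∃ a b c : k, x = a • E0 + b • E1 + c • E2 := by
  unfold V
  simp only [Submodule.mem_span_insert, Submodule.mem_span_singleton]
  constructor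
  · rintro ⟨a, _, ⟨b, _, ⟨c, rfl⟩, rfl⟩, rfl⟩
    exact ⟨a, b, c, by abel⟩
  · rintro ⟨a, b, c, rfl⟩
    exact ⟨a, _, ⟨b, _, ⟨c, rfl⟩, rfl⟩, by abel⟩

include rel in
lemma E0_mul_S {x : A} (hx : x ∈ S k E0 E1 E2) : E0 * x ∈ S' k E0 E1 E2 := by
  obtain ⟨a, b, c, d, rfl⟩ := mem_S_iff.1 hx
  rw [mem_S'_iff]
  refine ⟨a, c, d, b, ?_⟩
  (cliff_nf rel) <;> abel

include rel in
lemma E1_mul_S {x : A} (hx : x ∈ S k E0 E1 E2) : E1 * x ∈ S' k E0 E1 E2 := by
  obtain ⟨a, b, c, d, rfl⟩ := mem_S_iff.1 hx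
  rw [mem_S'_iff]
  refine ⟨0, a, 0, -d, ?_⟩
  cliff_nf rel
  simp only [zero_smul, neg_smul]
  abel

include rel in
lemma E2_mul_S {x : A} (hx : x ∈ S k E0 E1 E2) : E2 * x ∈ S' k E0 E1 E2 := by
  obtain ⟨a, b, c, d, rfl⟩ := mem_S_iff.1 hx
  rw [mem_S'_iff]
  refine ⟨-c, 0, a + b, c, ?_⟩
  cliff_nf rel
  simp only [zero_smul, neg_smul, add_smul]
  abel

include rel in
lemma E0_mul_S' {x : A} (hx : x ∈ S' k E0 E1 E2) : E0 * x ∈ S k E0 E1 E2 := by
  obtain ⟨a, b, c, d, rfl⟩ := mem_S'_iff.1 hx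
  rw [mem_S_iff]
  refine ⟨a, d, b, c, ?_⟩
  (cliff_nf rel) <;> abel

include rel in
lemma E1_mul_S' {x : A} (hx : x ∈ S' k E0 E1 E2) : E1 * x ∈ S k E0 E1 E2 := by
  obtain ⟨a, b, c, d, rfl⟩ := mem_S'_iff.1 hx
  rw [mem_S_iff]
  refine ⟨0, c, -a, 0, ?_⟩
  cliff_nf rel
  simp only [zero_smul, neg_smul]
  abel

include rel in
lemma E2_mul_S' {x : A} (hx : x ∈ S' k E0 E1 E2) : E2 * x ∈ S k E0 E1 E2 := by
  obtain ⟨a, b, c, d, rfl⟩ := mem_S'_iff.1 hx
  rw [mem_S_iff]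
  refine ⟨b, -b, 0, -a - d, ?_⟩
  cliff_nf rel
  simp only [zero_smul, neg_smul, sub_smul]
  abel

/-- hypotheses on the reversal map -/
structure RevHyp (E0 E1 E2 : A) (r : A →ₗ[k] A) : Prop where
  h1 : r 1 = 1
  hP : r (E1 * E2) = E2 * E1
  hA1 : r (E0 * E1) = E1 * E0
  hA2 : r (E0 * E2) = E2 * E0

variable {r : A →ₗ[k] A} (hr : RevHyp E0 E1 E2 r)

include rel hr in
lemma trace_S_aux (a b c d : k) :
    (a • (1 : A) + b • (E1 * E2) + c • (E0 * E1) + d • (E0 * E2)) +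
      r (a • (1 : A) + b • (E1 * E2) + c • (E0 * E1) + d • (E0 * E2)) = (2 * a + b) • (1 : A) := by
  simp only [map_add, map_smul, hr.h1, hr.hP, hr.hA1, hr.hA2, rel.h10, rel.h20, rel.h21]
  simp only [smul_sub, smul_neg, add_smul, mul_smul, two_smul, ofNat_smul_eq_nsmul]
  abel

include rel hr in
lemma trace_S {x : A} (hx : x ∈ S k E0 E1 E2) : ∃ t : k, x + r x = t • (1 : A) := by
  obtain ⟨a, b, c, d, rfl⟩ := mem_S_iff.1 hx
  exact ⟨_, trace_S_aux rel hr a b c d⟩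

include rel hr in
lemma mul_zz_mem_V {x : A} (hx : x ∈ S k E0 E1 E2) (hT : x + r x = 0) :
    x * zz E0 E1 E2 ∈ V k E0 E1 E2 := by
  obtain ⟨a, b, c, d, rfl⟩ := mem_S_iff.1 hx
  rw [trace_S_aux rel hr a b c d] at hT
  rw [mem_V_iff]
  refine ⟨-a, c, -d, ?_⟩
  have h0 : (2 * a + b) • (E0 * (E1 * E2)) = 0 := by
    have : (2 * a + b) • (E0 * (E1 * E2)) = ((2 * a + b) • (1 : A)) * (E0 * (E1 * E2)) := by
      rw [smul_mul_assoc, one_mul]
    rw [this, hT, zero_mul]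
  have h1 : (a • (1 : A) + b • (E1 * E2) + c • (E0 * E1) + d • (E0 * E2)) * zz E0 E1 E2 =
      (2 * a + b) • (E0 * (E1 * E2)) + (-a • E0 + c • E1 + -d • E2) := by
    rw [zz_eq rel]
    (cliff_nf rel)
    simp only [neg_smul, add_smul, mul_smul, two_smul, ofNat_smul_eq_nsmul, smul_add]
    abel
  rw [h1, h0, zero_add]

include rel hr in
lemma V_mul_zz {v : A} (hv : v ∈ V k E0 E1 E2) :
    v * zz E0 E1 E2 ∈ S k E0 E1 E2 ∧ v * zz E0 E1 E2 + r (v * zz E0 E1 E2) = 0 := by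
  obtain ⟨a, b, c, rfl⟩ := mem_V_iff.1 hv
  have h1 : (a • E0 + b • E1 + c • E2) * zz E0 E1 E2 =
      (-a) • (1 : A) + (2 * a) • (E1 * E2) + b • (E0 * E1) + (-c) • (E0 * E2) := by
    rw [zz_eq rel]
    (cliff_nf rel)
    simp only [neg_smul, add_smul, mul_smul, two_smul, ofNat_smul_eq_nsmul, smul_add]
    abel
  rw [h1]
  refine ⟨mem_S_iff.2 ⟨_, _, _, _, rfl⟩, ?_⟩
  rw [trace_S_aux rel hr]
  have : 2 * -a + 2 * a = 0 := by ring
  rw [this, zero_smul]

include rel hr in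
lemma trace_comm {x y : A} (hx : x ∈ S k E0 E1 E2) (hy : y ∈ S k E0 E1 E2)
    (hxy : r (x * y) = r y * r x) (hyx : r (y * x) = r x * r y) :
    x * y + r (x * y) = y * x + r (y * x) := by
  obtain ⟨t, ht⟩ := trace_S rel hr hx
  obtain ⟨s, hs⟩ := trace_S rel hr hy
  have h1 : r x = t • (1 : A) - x := by rw [← ht]; abel
  have h2 : r y = s • (1 : A) - y := by rw [← hs]; abel
  rw [hxy, hyx, h1, h2]
  simp only [mul_sub, sub_mul, smul_mul_assoc, mul_smul_comm, one_mul, mul_one, smul_sub]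
  rw [smul_comm s t (1 : A)]
  abel

end Abstract2

section Cliff

open CliffordAlgebra QuadGrp

universe u
variable (k : Type u) [Field k]

/-- the form `x₀² + x₁ x₂` -/
noncomputable abbrev Q3 : QuadraticForm k (Fin 3 → k) := QuadGrp.splitForm k 3

lemma Q3_apply (v : Fin 3 → k) : Q3 k v = v 1 * v 2 + v 0 * v 0 := by
  unfold Q3 splitForm
  rw [dif_pos (by decide)]
  simp only [add_apply, sum_apply, QuadraticMap.linMulLin_apply,
    LinearMap.proj_apply, QuadraticMap.comp_apply, QuadraticMap.sq_apply]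
  have : (Finset.univ : Finset (Fin (3 / 2))) = {⟨0, by decide⟩} := by decide
  rw [this, Finset.sum_singleton]
  rfl

/-- the generators -/
noncomputable def E (i : Fin 3) : CliffordAlgebra (Q3 k) := ι (Q3 k) (Pi.single i 1)

lemma E_sq (i : Fin 3) : E k i * E k i = algebraMap k _ (Q3 k (Pi.single i 1)) :=
  ι_sq_scalar _ _

lemma E_swap (i j : Fin 3) : E k i * E k j + E k j * E k i =
    algebraMap k _ (QuadraticMap.polar (Q3 k) (Pi.single i 1) (Pi.single j 1)) :=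
  ι_mul_ι_add_swap _ _

lemma rel3 : Rel (E k 0) (E k 1) (E k 2) where
  h00 := by
    rw [E_sq, Q3_apply]; simp
  h11 := by
    rw [E_sq, Q3_apply]; simp
  h22 := by
    rw [E_sq, Q3_apply]; simp
  h10 := by
    have h := E_swap k 1 0
    rw [QuadraticMap.polar, Q3_apply, Q3_apply, Q3_apply] at h
    simp at h
    exact eq_neg_of_add_eq_zero_left h
  h20 := by
    have h := E_swap k 2 0
    rw [QuadraticMap.polar, Q3_apply, Q3_apply, Q3_apply] at h
    simp at h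
    exact eq_neg_of_add_eq_zero_left h
  h21 := by
    have h := E_swap k 2 1
    rw [QuadraticMap.polar, Q3_apply, Q3_apply, Q3_apply] at h
    simp at h
    rw [← h]; abel

lemma ι_eq (v : Fin 3 → k) :
    ι (Q3 k) v = v 0 • E k 0 + v 1 • E k 1 + v 2 • E k 2 := by
  have hv : v = v 0 • Pi.single 0 1 + v 1 • Pi.single 1 1 + v 2 • Pi.single 2 1 := by
    funext i
    fin_cases i <;> simp
  conv_lhs => rw [hv]
  simp only [map_add, map_smul]
  rfl

lemma range_ι_eq : LinearMap.range (ι (Q3 k)) = V k (E k 0) (E k 1) (E k 2) := by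
  ext x
  rw [mem_V_iff, LinearMap.mem_range]
  constructor
  · rintro ⟨v, rfl⟩
    exact ⟨v 0, v 1, v 2, ι_eq k v⟩
  · rintro ⟨a, b, c, rfl⟩
    refine ⟨![a, b, c], ?_⟩
    rw [ι_eq]
    simp

lemma revHyp : RevHyp (E k 0) (E k 1) (E k 2) (reverse (Q := Q3 k)) where
  h1 := reverse.map_one
  hP := by rw [reverse.map_mul]; simp only [E, reverse_ι]
  hA1 := by rw [reverse.map_mul]; simp only [E, reverse_ι]
  hA2 := by rw [reverse.map_mul]; simp only [E, reverse_ι]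

lemma ι_mul_S {x : CliffordAlgebra (Q3 k)} (v : Fin 3 → k)
    (hx : x ∈ S k (E k 0) (E k 1) (E k 2)) : ι (Q3 k) v * x ∈ S' k (E k 0) (E k 1) (E k 2) := by
  rw [ι_eq, add_mul, add_mul, smul_mul_assoc, smul_mul_assoc, smul_mul_assoc]
  exact Submodule.add_mem _ (Submodule.add_mem _
    (Submodule.smul_mem _ _ (E0_mul_S (rel3 k) hx))
    (Submodule.smul_mem _ _ (E1_mul_S (rel3 k) hx)))
    (Submodule.smul_mem _ _ (E2_mul_S (rel3 k) hx))

lemma ι_mul_S' {x : CliffordAlgebra (Q3 k)} (v : Fin 3 → k)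
    (hx : x ∈ S' k (E k 0) (E k 1) (E k 2)) : ι (Q3 k) v * x ∈ S k (E k 0) (E k 1) (E k 2) := by
  rw [ι_eq, add_mul, add_mul, smul_mul_assoc, smul_mul_assoc, smul_mul_assoc]
  exact Submodule.add_mem _ (Submodule.add_mem _
    (Submodule.smul_mem _ _ (E0_mul_S' (rel3 k) hx))
    (Submodule.smul_mem _ _ (E1_mul_S' (rel3 k) hx)))
    (Submodule.smul_mem _ _ (E2_mul_S' (rel3 k) hx))

lemma even_mem_S {x : CliffordAlgebra (Q3 k)} (hx : x ∈ evenOdd (Q3 k) 0) :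
    x ∈ S k (E k 0) (E k 1) (E k 2) := by
  induction x, hx using even_induction with
  | algebraMap r =>
    rw [mem_S_iff]
    exact ⟨r, 0, 0, 0, by simp [Algebra.algebraMap_eq_smul_one]⟩
  | add x y hx hy ihx ihy => exact Submodule.add_mem _ ihx ihy
  | ι_mul_ι_mul m₁ m₂ x hx ih =>
    rw [mul_assoc]
    exact ι_mul_S' k m₁ (ι_mul_S k m₂ ih)

lemma zz_central (x : CliffordAlgebra (Q3 k)) :
    x * zz (E k 0) (E k 1) (E k 2) = zz (E k 0) (E k 1) (E k 2) * x := by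
  induction x using CliffordAlgebra.induction with
  | algebraMap r => exact Algebra.commutes r _
  | ι v =>
    rw [ι_eq, add_mul, add_mul, mul_add, mul_add, smul_mul_assoc, smul_mul_assoc, smul_mul_assoc,
      mul_smul_comm, mul_smul_comm, mul_smul_comm, E0_mul_zz (rel3 k), E1_mul_zz (rel3 k),
      E2_mul_zz (rel3 k)]
  | mul a b ha hb => rw [mul_assoc, hb, ← mul_assoc, ha, mul_assoc]
  | add a b ha hb => rw [add_mul, mul_add, ha, hb]

theorem conj_mem {u u' : CliffordAlgebra (Q3 k)} (hu : u ∈ evenOdd (Q3 k) 0)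
    (hu' : u' ∈ evenOdd (Q3 k) 0) (h2 : u' * u = 1) (v : Fin 3 → k) :
    u * ι (Q3 k) v * u' ∈ LinearMap.range (ι (Q3 k)) := by
  set z := zz (E k 0) (E k 1) (E k 2) with hz
  have hzodd : z ∈ evenOdd (Q3 k) 1 := by
    have h1 : ∀ i, E k i ∈ evenOdd (Q3 k) 1 := fun i => ι_mem_evenOdd_one _ _
    have h2 : E k 1 * E k 2 - E k 2 * E k 1 ∈ evenOdd (Q3 k) 0 := by
      apply Submodule.sub_mem
      · have := SetLike.mul_mem_graded (h1 1) (h1 2)
        exact this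
      · have := SetLike.mul_mem_graded (h1 2) (h1 1)
        exact this
    have := SetLike.mul_mem_graded (h1 0) h2
    exact this
  have hvV : ι (Q3 k) v ∈ V k (E k 0) (E k 1) (E k 2) := by
    rw [← range_ι_eq]; exact LinearMap.mem_range_self _ _
  obtain ⟨hyS, hyT⟩ := V_mul_zz (rel3 k) (revHyp k) hvV
  set y := ι (Q3 k) v * z with hy
  have hyeven : y ∈ evenOdd (Q3 k) 0 := by
    have := SetLike.mul_mem_graded (ι_mem_evenOdd_one (Q3 k) v) hzodd
    exact this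
  have hyu' : y * u' ∈ evenOdd (Q3 k) 0 := by
    have := SetLike.mul_mem_graded hyeven hu'
    exact this
  have hy' : u * (y * u') ∈ evenOdd (Q3 k) 0 := by
    have := SetLike.mul_mem_graded hu hyu'
    exact this
  have hT : u * (y * u') + reverse (u * (y * u')) = 0 := by
    rw [trace_comm (rel3 k) (revHyp k) (even_mem_S k hu) (even_mem_S k hyu')
      (reverse.map_mul _ _) (reverse.map_mul _ _), mul_assoc, h2, mul_one]
    exact hyT
  have hfin := mul_zz_mem_V (rel3 k) (revHyp k) (even_mem_S k hy') hT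
  rw [range_ι_eq]
  have : u * (y * u') * z = u * ι (Q3 k) v * u' := by
    rw [hy, mul_assoc u, mul_assoc (ι (Q3 k) v * z), zz_central k u', ← hz,
      mul_assoc (ι (Q3 k) v), ← mul_assoc z z, hz, zz_mul_zz (rel3 k), one_mul, mul_assoc]
  rw [← this]
  exact hfin

open scoped Pointwise in
theorem main : QuadGrp.evenUnits (QuadGrp.splitForm k 3) ≤ QuadGrp.GPin' (QuadGrp.splitForm k 3) := by
  intro u hu
  rw [mem_GPin']
  have hu0 : (u : CliffordAlgebra (Q3 k)) ∈ evenOdd (Q3 k) 0 := hu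
  have hu1 : ((u⁻¹ : (CliffordAlgebra (Q3 k))ˣ) : CliffordAlgebra (Q3 k)) ∈ evenOdd (Q3 k) 0 :=
    (evenUnits (Q3 k)).inv_mem hu
  apply le_antisymm
  · intro x hx
    obtain ⟨y, hy, rfl⟩ := (Submodule.mem_smul_pointwise_iff_exists _ _ _).1 hx
    obtain ⟨v, rfl⟩ := hy
    rw [ConjAct.units_smul_def, ConjAct.ofConjAct_toConjAct]
    exact conj_mem k hu0 hu1 (by simp) v
  · intro x hx
    obtain ⟨v, rfl⟩ := hx
    rw [Submodule.mem_smul_pointwise_iff_exists]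
    refine ⟨(↑u⁻¹ : CliffordAlgebra (Q3 k)) * ι (Q3 k) v * (u : CliffordAlgebra (Q3 k)),
      conj_mem k hu1 hu0 (by simp) v, ?_⟩
    rw [ConjAct.units_smul_def, ConjAct.ofConjAct_toConjAct]
    simp [mul_assoc]

end Cliff

end Groth.Agent.Lib.Helper5.CliffThree
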